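import Groth.Agent.PullbackMod.Flat
import Groth.Agent.BlowSurfLib.Gen
import Groth.Agent.QCohLib.Push

/-!
# Generation of direct images along affine base changes
-/

set_option autoImplicit false
set_option linter.style.haveILetI false
set_option backward.isDefEq.respectTransparency false

universe u

open CategoryTheory CategoryTheory.Limits AlgebraicGeometry TopologicalSpace Opposite

noncomputable section

namespace Groth.Agent.AffTwistLib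

variable {X Y X' Y' : Scheme.{u}} {f : X ⟶ Y} {g : Y' ⟶ Y} {g' : X' ⟶ X} {f' : X' ⟶ Y'}

theorem preimage_eq (hsq : IsPullback g' f' f g) (V : Y.Opens) : g' ⁻¹ᵁ (f ⁻¹ᵁ V) = f' ⁻¹ᵁ (g ⁻¹ᵁ V) := by
  rw [← Scheme.Hom.comp_preimage, ← Scheme.Hom.comp_preimage, hsq.w]

/-- Sections over the preimage of an affine open generate the direct image along an affine base change,
if they generate the module. -/
theorem span_germ_pushforward (hsq : IsPullback g' f' f g) [IsAffineHom g] {V : Y.Opens} (hV : IsAffineOpen V)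
    (M : X'.Modules) [Coh.IsQCoh M]
    (h : ∀ (x' : X') (hx' : x' ∈ g' ⁻¹ᵁ (f ⁻¹ᵁ V)), Submodule.span (X'.presheaf.stalk x')
      (Set.range fun σ : Γ(M, g' ⁻¹ᵁ (f ⁻¹ᵁ V)) => M.presheaf.germ _ x' hx' σ) = ⊤)
    (x : X) (hx : x ∈ f ⁻¹ᵁ V) :
    Submodule.span (X.presheaf.stalk x)
      (Set.range fun σ : Γ((Scheme.Modules.pushforward g').obj M, f ⁻¹ᵁ V) =>
        ((Scheme.Modules.pushforward g').obj M).presheaf.germ _ x hx σ) = ⊤ := by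
  let P := (Scheme.Modules.pushforward g').obj M
  let U := f ⁻¹ᵁ V
  set N := Submodule.span (X.presheaf.stalk x)
      (Set.range fun σ : Γ(P, U) => P.presheaf.germ U x hx σ)
  refine eq_top_iff.2 fun z _ => ?_
  obtain ⟨O, hxO, z, rfl⟩ := TopCat.Presheaf.exists_germ_eq P.presheaf z
  obtain ⟨_, ⟨U₀, hU₀, rfl⟩, hxU₀, hle⟩ := X.isBasis_affineOpens.exists_subset_of_mem_open
    (show x ∈ ((O ⊓ U : X.Opens) : Set X) from ⟨hxO, hx⟩) (O ⊓ U).isOpen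
  have hU₀U : U₀ ≤ U := fun _ hy => (hle hy).2
  have hU₀O : U₀ ≤ O := fun _ hy => (hle hy).1
  obtain ⟨hW₁, hpo⟩ := PullbackMod.isPushout_appLE hsq hV hU₀ (hV.preimage g) hU₀U le_rfl
  have hsub : g' ⁻¹ᵁ U₀ ≤ f' ⁻¹ᵁ (g ⁻¹ᵁ V) := fun _ hy => (preimage_eq hsq V).le (g'.preimage_mono hU₀U hy)
  have heq : g' ⁻¹ᵁ U₀ ⊓ f' ⁻¹ᵁ (g ⁻¹ᵁ V) = g' ⁻¹ᵁ U₀ := inf_eq_left.2 hsub
  have hW : IsAffineOpen (g' ⁻¹ᵁ U₀) := heq ▸ hW₁
  have hspan := BlowSurfLib.span_eq_top_of_germ M hW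
    (Set.range fun σ : Γ(M, g' ⁻¹ᵁ U) => M.presheaf.map (homOfLE (g'.preimage_mono hU₀U)).op σ)
    fun x' hx' => by
      refine eq_top_iff.2 ((h x' (g'.preimage_mono hU₀U hx')).ge.trans (Submodule.span_mono ?_))
      rintro _ ⟨σ, rfl⟩
      exact ⟨_, ⟨σ, rfl⟩, TopCat.Presheaf.germ_res_apply M.presheaf _ x' hx' σ⟩
  let Φ : Γ(M, g' ⁻¹ᵁ U₀) →+ P.presheaf.stalk x := (P.presheaf.germ U₀ x hxU₀).hom
  suffices key : ∀ t : Γ(M, g' ⁻¹ᵁ U₀), ∀ c : Γ(X', g' ⁻¹ᵁ U₀), Φ (c • t) ∈ N by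
    have h1 := key (P.presheaf.map (homOfLE hU₀O).op z) 1
    rw [one_smul] at h1
    exact (TopCat.Presheaf.germ_res_apply P.presheaf (homOfLE hU₀O) x hxU₀ z) ▸ h1
  intro t
  have ht : t ∈ Submodule.span Γ(X', g' ⁻¹ᵁ U₀)
      (Set.range fun σ : Γ(M, g' ⁻¹ᵁ U) => M.presheaf.map (homOfLE (g'.preimage_mono hU₀U)).op σ) :=
    hspan ▸ Submodule.mem_top
  induction ht using Submodule.span_induction with
  | zero => intro c; rw [smul_zero, map_zero]; exact N.zero_mem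
  | add a b _ _ ha hb => intro c; rw [smul_add, map_add]; exact N.add_mem (ha c) (hb c)
  | smul d a _ ha => intro c; rw [smul_smul]; exact ha (c * d)
  | mem s hs =>
    obtain ⟨σ, rfl⟩ := hs
    intro c
    let r : Γ(X', g' ⁻¹ᵁ U₀ ⊓ f' ⁻¹ᵁ (g ⁻¹ᵁ V)) →+* Γ(X', g' ⁻¹ᵁ U₀) :=
      (X'.presheaf.map (homOfLE heq.ge).op).hom
    obtain ⟨c, rfl⟩ : ∃ c', r c' = c := ⟨(X'.presheaf.map (homOfLE inf_le_left).op) c, by
      show X'.presheaf.map _ (X'.presheaf.map _ c) = c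
      rw [← CategoryTheory.comp_apply, ← Functor.map_comp]
      exact ConcreteCategory.congr_hom (X'.presheaf.map_id _) c⟩
    letI : Algebra Γ(Y, V) Γ(X, U₀) := (f.appLE V U₀ hU₀U).hom.toAlgebra
    letI : Algebra Γ(Y, V) Γ(Y', g ⁻¹ᵁ V) := (g.appLE V (g ⁻¹ᵁ V) le_rfl).hom.toAlgebra
    letI : Algebra Γ(X, U₀) Γ(X', g' ⁻¹ᵁ U₀ ⊓ f' ⁻¹ᵁ (g ⁻¹ᵁ V)) :=
      (g'.appLE U₀ _ inf_le_left).hom.toAlgebra
    letI : Algebra Γ(Y', g ⁻¹ᵁ V) Γ(X', g' ⁻¹ᵁ U₀ ⊓ f' ⁻¹ᵁ (g ⁻¹ᵁ V)) :=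
      (f'.appLE (g ⁻¹ᵁ V) _ inf_le_right).hom.toAlgebra
    letI : Algebra Γ(Y, V) Γ(X', g' ⁻¹ᵁ U₀ ⊓ f' ⁻¹ᵁ (g ⁻¹ᵁ V)) :=
      ((g'.appLE U₀ _ inf_le_left).hom.comp (f.appLE V U₀ hU₀U).hom).toAlgebra
    haveI : IsScalarTower Γ(Y, V) Γ(X, U₀) Γ(X', g' ⁻¹ᵁ U₀ ⊓ f' ⁻¹ᵁ (g ⁻¹ᵁ V)) := .of_algebraMap_eq fun _ => rfl
    haveI : IsScalarTower Γ(Y, V) Γ(Y', g ⁻¹ᵁ V) Γ(X', g' ⁻¹ᵁ U₀ ⊓ f' ⁻¹ᵁ (g ⁻¹ᵁ V)) :=
      .of_algebraMap_eq' (by
        show ((f.appLE V U₀ hU₀U) ≫ g'.appLE U₀ _ inf_le_left).hom =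
          ((g.appLE V (g ⁻¹ᵁ V) le_rfl) ≫ f'.appLE (g ⁻¹ᵁ V) _ inf_le_right).hom
        simp only [Scheme.Hom.appLE_comp_appLE, hsq.w])
    induction c using (hpo.out).inductionOn generalizing σ with
    | zero => rw [map_zero, zero_smul, map_zero]; exact N.zero_mem
    | add a b ha hb => rw [map_add, add_smul, map_add]; exact N.add_mem (ha σ) (hb σ)
    | smul b w hw =>
      let b' : Γ(X', g' ⁻¹ᵁ U) := f'.appLE (g ⁻¹ᵁ V) (g' ⁻¹ᵁ U) (preimage_eq hsq V).le b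
      have e1 : r (b • w) = r w * X'.presheaf.map (homOfLE (g'.preimage_mono hU₀U)).op b' := by
        rw [Algebra.smul_def, map_mul, mul_comm]
        refine congrArg (r w * ·) ?_
        show X'.presheaf.map _ (f'.appLE (g ⁻¹ᵁ V) _ inf_le_right b) = X'.presheaf.map _ _
        rw [← CategoryTheory.comp_apply, Scheme.Hom.appLE_map, ← CategoryTheory.comp_apply, Scheme.Hom.appLE_map]
      rw [e1, mul_smul]
      have e2 : X'.presheaf.map (homOfLE (g'.preimage_mono hU₀U)).op b' •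
          M.presheaf.map (homOfLE (g'.preimage_mono hU₀U)).op σ =
          M.presheaf.map (homOfLE (g'.preimage_mono hU₀U)).op (b' • σ) :=
        (Scheme.Modules.map_smul M _ b' σ).symm
      rw [e2]
      exact hw (b' • σ)
    | tmul a =>
      have e1 : r (algebraMap Γ(X, U₀) _ a) = g'.app U₀ a := by
        show X'.presheaf.map _ (g'.appLE U₀ _ inf_le_left a) = _
        rw [← CategoryTheory.comp_apply, Scheme.Hom.appLE_map, Scheme.Hom.app_eq_appLE]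
      show Φ (r (algebraMap Γ(X, U₀) _ a) • _) ∈ N
      rw [e1]
      have e2 : Φ (g'.app U₀ a • M.presheaf.map (homOfLE (g'.preimage_mono hU₀U)).op σ) =
          X.presheaf.germ U₀ x hxU₀ a • P.presheaf.germ U x hx σ := by
        rw [← TopCat.Presheaf.germ_res_apply P.presheaf (homOfLE hU₀U) x hxU₀ (show Γ(P, U) from σ)]
        exact PresheafOfModules.germ_smul (R := X.presheaf) P.val x U₀ hxU₀ a _
      rw [e2]
      exact N.smul_mem _ (Submodule.subset_span ⟨σ, rfl⟩)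

end Groth.Agent.AffTwistLib
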