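import Groth.Agent.AffTwistLib.Span
import Groth.Agent.AmpleEmb.RelVanish
import Groth.Agent.AmpleEmb.Generated
import Groth.Agent.ProjBundleLib.FTQuot
import Groth.Agent.DCohLib.OpenD
import Groth.Agent.S2359
import Groth.Agent.S0012

/-!
# Large twists along affine base changes
-/

set_option autoImplicit false
set_option linter.style.haveILetI false
set_option backward.isDefEq.respectTransparency false

universe u

open CategoryTheory CategoryTheory.Limits AlgebraicGeometry TopologicalSpace Opposite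
open Groth.Agent.CohBase

noncomputable section

namespace Groth.Agent.AffTwistLib

variable {X Y X' Y' : Scheme.{u}} {f : X ⟶ Y} {g : Y' ⟶ Y} {g' : X' ⟶ X} {f' : X' ⟶ Y'}

theorem isRelAmple_of_eq_iso {f₁ f₂ : X ⟶ Y} (hf : f₁ = f₂) {L₁ L₂ : X.Modules} (e : L₁ ≅ L₂)
    (h : RelAmple.IsRelAmple f₁ L₁) : RelAmple.IsRelAmple f₂ L₂ := by
  subst hf
  exact ⟨h.1, fun V => AmpleLib.isAmple_of_iso ((Scheme.Modules.restrictFunctor (f₁ ⁻¹ᵁ V.1).ι).mapIso e) (h.2 V)⟩

/-- Relative ampleness passes to any pullback square. -/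
theorem isRelAmple_of_isPullback (hsq : IsPullback g' f' f g) (L : X.Modules)
    (h : RelAmple.IsRelAmple (pullback.snd f g) ((Scheme.Modules.pullback (pullback.fst f g)).obj L)) :
    RelAmple.IsRelAmple f' ((Scheme.Modules.pullback g').obj L) := by
  have hq : QuasiCompact (pullback.snd f g) := h.1
  let e := hsq.isoPullback
  have h1 := S2359.result (pullback.snd f g) e.hom e.hom.isOpenEmbedding.isEmbedding _ h
  exact isRelAmple_of_eq_iso hsq.isoPullback_hom_snd
    ((Scheme.Modules.pullbackComp e.hom (pullback.fst f g)).app L ≪≫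
      (Scheme.Modules.pullbackCongr hsq.isoPullback_hom_fst).app L) h1

/-- Large twists are generated by sections over preimages of affine opens of the base. -/
theorem exists_span_preimage (f' : X' ⟶ Y') (g : Y' ⟶ Y) [IsNoetherian Y] [IsNoetherian Y'] [IsAffineHom g]
    [IsProper f'] {L : X'.Modules} (hL : PicF.IsInvertible L) (hamp : RelAmple.IsRelAmple f' L)
    {G : X'.Modules} (hG : Coh.IsCoh G) :
    ∃ N : ℕ, ∀ n : ℕ, N ≤ n → ∀ y : Y, ∃ (V : Y.Opens), IsAffineOpen V ∧ y ∈ V ∧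
      ∀ (x' : X') (hx' : x' ∈ f' ⁻¹ᵁ (g ⁻¹ᵁ V)), Submodule.span (X'.presheaf.stalk x')
        (Set.range fun σ : Γ(CohB1.tensorMod G (CohB1.tensorPow L n), f' ⁻¹ᵁ (g ⁻¹ᵁ V)) =>
          (CohB1.tensorMod G (CohB1.tensorPow L n)).presheaf.germ _ x' hx' σ) = ⊤ := by
  classical
  haveI : IsLocallyNoetherian X' := LocallyOfFiniteType.isLocallyNoetherian f'
  have hcov : ∀ y : Y, ∃ V : Y.affineOpens, y ∈ V.1 := fun y => by
    obtain ⟨_, ⟨V, hV, rfl⟩, hy, -⟩ :=
      Y.isBasis_affineOpens.exists_subset_of_mem_open (Set.mem_univ y) isOpen_univ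
    exact ⟨⟨V, hV⟩, hy⟩
  choose V hV using hcov
  obtain ⟨T, hT⟩ := isCompact_univ.elim_finite_subcover (fun y : Y => ((V y).1 : Set Y))
    (fun y => (V y).1.isOpen) fun y _ => Set.mem_iUnion.2 ⟨y, hV y⟩
  choose N hN using fun y : Y => AmpleEmb.eventually_isGloballyGenerated (hamp.2 ⟨g ⁻¹ᵁ (V y).1, (V y).2.preimage g⟩)
    (ProjBundleLib.isCoh_restrict_open hG.1 hG.2 (f' ⁻¹ᵁ (g ⁻¹ᵁ (V y).1)))
  refine ⟨T.sup N, fun n hn y' => ?_⟩
  obtain ⟨y, hyT, hy⟩ := Set.mem_iUnion₂.1 (hT (Set.mem_univ y'))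
  refine ⟨(V y).1, (V y).2, hy, fun x hx => ProjBundleLib.span_germ_of_restrict ?_ hx⟩
  exact AmpleLib.isGloballyGenerated_of_iso (AmpleLib.restrictTensor _ _ _ ≪≫
    AmpleLib.tIso (Iso.refl _) (AmpleLib.restrictPow _ L n)).symm (hN y n ((Finset.le_sup hyT).trans hn))

/-- Higher direct images of direct images along affine base changes vanish if the ones upstairs do. -/
theorem isZero_rpushAb_pushforward (hsq : IsPullback g' f' f g) [IsAffineHom g] [IsAffineHom g']
    [QuasiCompact f] [QuasiSeparated f] [QuasiCompact f'] [QuasiSeparated f']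
    (M : X'.Modules) [Coh.IsQCoh M] (q : ℕ) (hz : IsZero ((Coh.Rpush f' (q + 1)).obj M)) :
    IsZero ((Coh.RpushAb f (q + 1)).obj (Coh.toAb ((Scheme.Modules.pushforward g').obj M))) := by
  haveI : Coh.IsQCoh ((Scheme.Modules.pushforward g').obj M) := QCohLib.isQCoh_pushforward M g'
  refine RpushLib.isZero_rightDerived_at f.base (B := fun U => IsAffineOpen U) (fun W y hy => ?_) _ q fun W hW => ?_
  · obtain ⟨V', ⟨V, hV, rfl⟩, hyV, hVW⟩ := Y.isBasis_affineOpens.exists_subset_of_mem_open hy W.2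
    exact ⟨V, hV, hyV, hVW⟩
  let V := f ⁻¹ᵁ W
  have h1 : Subsingleton (Coh.HH (f' ⁻¹ᵁ (g ⁻¹ᵁ W)).toScheme (M.restrict (f' ⁻¹ᵁ (g ⁻¹ᵁ W)).ι) (q + 1)) :=
    AmpleEmb.subsingleton_HH_of_isZero_rpush f' M (hW.preimage g) (q + 1) hz
  rw [← preimage_eq hsq W] at h1
  haveI : Coh.IsQCoh (M.restrict (g' ⁻¹ᵁ V).ι) := inferInstance
  haveI : IsAffineHom (g' ∣_ V) := IsZariskiLocalAtTarget.restrict ‹IsAffineHom g'› V
  obtain ⟨e⟩ := S0012.result (g' ∣_ V) (M.restrict (g' ⁻¹ᵁ V).ι) (q + 1)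
  haveI := h1
  haveI := e.symm.toEquiv.subsingleton
  have h2 : Subsingleton (Coh.HH V.toScheme (((Scheme.Modules.pushforward g').obj M).restrict V.ι) (q + 1)) :=
    CurveLib.subsingleton_HH_iso ((DCohLib.restrictPushIso g' V).app M).symm (q + 1) this
  have h3 := AmpleEmb.subsingleton_HU_preimage_basicOpen f _ hW q h2 1
  rwa [Scheme.basicOpen_of_isUnit _ isUnit_one] at h3

theorem epi_counit_of_iso (f : X ⟶ Y) {M N : X.Modules} (η : M ≅ N)
    (h : Epi ((Scheme.Modules.pullbackPushforwardAdjunction f).counit.app M)) :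
    Epi ((Scheme.Modules.pullbackPushforwardAdjunction f).counit.app N) := by
  haveI := h
  haveI : Epi ((Scheme.Modules.pushforward f ⋙ Scheme.Modules.pullback f).map η.hom ≫
      (Scheme.Modules.pullbackPushforwardAdjunction f).counit.app N) := by
    refine (congrArg Epi ((Scheme.Modules.pullbackPushforwardAdjunction f).counit.naturality η.hom)).mpr ?_
    exact epi_comp _ _
  exact epi_of_epi ((Scheme.Modules.pushforward f ⋙ Scheme.Modules.pullback f).map η.hom) _

end Groth.Agent.AffTwistLib
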